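import Groth.Agent.SepReg.Basic
import Groth.Prelude.Def_CurvBase
import Mathlib.AlgebraicGeometry.Morphisms.Smooth
import Mathlib.RingTheory.DiscreteValuationRing.TFAE

/-! Regular = smooth at closed points with separable residue field, on schemes. -/

set_option autoImplicit false
set_option backward.isDefEq.respectTransparency false

namespace Groth.Agent.SepReg

universe u

open CategoryTheory AlgebraicGeometry TopologicalSpace

attribute [local instance] Curv2.resAlgebra

theorem smoothLocus_iff_regular (k : Type u) [Field k] (X : Scheme.{u}) [X.Over (Spec (CommRingCat.of k))]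
    [LocallyOfFinitePresentation (X ↘ Spec (CommRingCat.of k))] (x : X) (hx : IsClosed ({x} : Set X))
    [Algebra.IsSeparable k (X.residueField x)] :
    x ∈ (X ↘ Spec (CommRingCat.of k)).smoothLocus ↔ IsRegularLocalRing (X.presheaf.stalk x) := by
  let f := X ↘ Spec (CommRingCat.of k)
  obtain ⟨_, ⟨V, hV, rfl⟩, hxV, -⟩ :=
    X.isBasis_affineOpens.exists_subset_of_mem_open (Set.mem_univ x) isOpen_univ
  let B : Type u := Γ(X, V)
  have hle : V ≤ f ⁻¹ᵁ ⊤ := fun _ _ => trivial
  letI : Algebra Γ(Spec (CommRingCat.of k), ⊤) B := (f.appLE ⊤ V hle).hom.toAlgebra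
  letI : Algebra k Γ(Spec (CommRingCat.of k), ⊤) := (Scheme.ΓSpecIso (CommRingCat.of k)).inv.hom.toAlgebra
  letI : Algebra k B :=
    ((f.appLE ⊤ V hle).hom.comp (Scheme.ΓSpecIso (CommRingCat.of k)).inv.hom).toAlgebra
  haveI : IsScalarTower k Γ(Spec (CommRingCat.of k), ⊤) B := IsScalarTower.of_algebraMap_eq fun _ => rfl
  haveI : Algebra.FiniteType k B := by
    have h1 := f.finiteType_appLE (isAffineOpen_top _) hV hle
    have h2 : (Scheme.ΓSpecIso (CommRingCat.of k)).inv.hom.FiniteType :=
      RingHom.FiniteType.of_surjective _ (ConcreteCategory.bijective_of_isIso (Scheme.ΓSpecIso (CommRingCat.of k)).inv).2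
    exact RingHom.finiteType_algebraMap.1 (h1.comp h2)
  haveI : Algebra.FormallyEtale k Γ(Spec (CommRingCat.of k), ⊤) :=
    Algebra.FormallyEtale.of_equiv
      ({ (Scheme.ΓSpecIso (CommRingCat.of k)).commRingCatIsoToRingEquiv.symm with commutes' := fun _ => rfl } :
        k ≃ₐ[k] Γ(Spec (CommRingCat.of k), ⊤))
  let p := hV.primeIdealOf ⟨x, hxV⟩
  haveI hpm : p.asIdeal.IsMaximal := hV.primeIdealOf_isMaximal_of_isClosed ⟨x, hxV⟩ hx
  have key : x ∈ f.smoothLocus ↔ Algebra.IsSmoothAt k p.asIdeal := by
    rw [Scheme.Hom.mem_smoothLocus, formallySmooth_stalkMap_iff ⊤ (isAffineOpen_top _) V hV hle hxV]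
    exact (Algebra.FormallySmooth.iff_restrictScalars (R := k) (A := Γ(Spec (CommRingCat.of k), ⊤))).symm
  letI := X.presheaf.algebra_section_stalk ⟨x, hxV⟩
  haveI := hV.isLocalization_stalk ⟨x, hxV⟩
  let e := (IsLocalization.algEquiv p.asIdeal.primeCompl (X.presheaf.stalk x) (Localization.AtPrime p.asIdeal)).toRingEquiv
  rw [key]
  constructor
  · intro h
    haveI := h
    haveI := regular_of_isSmoothAt (k := k) p.asIdeal
    exact IsRegularLocalRing.of_ringEquiv e.symm
  · intro h
    haveI := h
    haveI : IsRegularLocalRing (Localization.AtPrime p.asIdeal) := IsRegularLocalRing.of_ringEquiv e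
    let φ : B →+* X.residueField x := (X.residue x).hom.comp (algebraMap B (X.presheaf.stalk x))
    have hφk : ∀ c : k, φ (algebraMap k B c) = algebraMap k (X.residueField x) c := fun c => by
      show (X.residue x) (X.presheaf.germ V x hxV (f.appLE ⊤ V hle ((Scheme.ΓSpecIso (CommRingCat.of k)).inv c))) =
        (X.residue x) (X.presheaf.germ ⊤ x trivial (Coh.toGlobal f c))
      refine congrArg _ ?_
      rw [Scheme.Hom.appLE]
      exact X.presheaf.germ_res_apply (homOfLE hle) x hxV _
    let φ' : B →ₐ[k] X.residueField x := { φ with commutes' := hφk }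
    have hker : RingHom.ker φ' = p.asIdeal := by
      ext b
      show X.residue x (algebraMap B (X.presheaf.stalk x) b) = 0 ↔ _
      exact (IsLocalRing.residue_eq_zero_iff _).trans
        (IsLocalization.AtPrime.to_map_mem_maximal_iff (X.presheaf.stalk x) p.asIdeal b)
    have hsurj : Function.Surjective φ' := by
      intro z
      obtain ⟨w, rfl⟩ := IsLocalRing.residue_surjective (R := X.presheaf.stalk x) z
      obtain ⟨a, s, rfl⟩ := IsLocalization.exists_mk'_eq p.asIdeal.primeCompl w
      obtain ⟨t, i, hi, hti⟩ := hpm.exists_inv s.2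
      refine ⟨a * t, ?_⟩
      have hs : φ' (s : B) ≠ 0 := fun h => s.2 (hker.le h)
      refine mul_right_cancel₀ hs ?_
      rw [← map_mul]
      have h1 : φ' (t * s) = 1 := by
        rw [← map_one φ', ← hti, map_add, (hker.ge hi : φ' i = 0), add_zero]
      rw [mul_assoc, map_mul, h1, mul_one]
      show X.residue x (algebraMap B (X.presheaf.stalk x) a) = _ * X.residue x (algebraMap B (X.presheaf.stalk x) s)
      exact (congrArg _ (IsLocalization.mk'_spec (X.presheaf.stalk x) a s).symm).trans (map_mul (X.residue x).hom _ _)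
    haveI : Algebra.FiniteType k (X.residueField x) := Algebra.FiniteType.of_surjective φ' hsurj
    haveI : Module.Finite k (X.residueField x) := finite_of_finite_type_of_isJacobsonRing _ _
    exact isSmoothAt_aux φ' p.asIdeal hker

/-- Regular local rings of dimension one are the discrete valuation rings. -/
theorem dvr_iff_regular (R : Type u) [CommRing R] [IsDomain R] [IsLocalRing R] [IsNoetherianRing R]
    (hF : ¬ IsField R) (hd : ringKrullDim R ≤ 1) : IsDiscreteValuationRing R ↔ IsRegularLocalRing R := by
  have h := ((IsDiscreteValuationRing.TFAE R hF).out 0 5 :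
    IsDiscreteValuationRing R ↔ Module.finrank (IsLocalRing.ResidueField R) (IsLocalRing.CotangentSpace R) = 1)
  have hne : ringKrullDim R ≠ 0 := fun e => hF (by
    haveI : Ring.KrullDimLE 0 R := Ring.krullDimLE_iff.2 e.le
    exact Ring.KrullDimLE.isField_of_isDomain)
  have hdim : ringKrullDim R = 1 := by
    have h0 : (0 : WithBot ℕ∞) ≤ ringKrullDim R := ringKrullDim_nonneg_of_nontrivial
    generalize ringKrullDim R = t at h0 hd hne
    induction t using WithBot.recBotCoe with
    | bot => simp at h0
    | coe t =>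
      have h1 : t ≤ 1 := WithBot.coe_le_coe.1 hd
      have h2 : 1 ≤ t := Order.one_le_iff_pos.2 (pos_iff_ne_zero.2 fun e => hne (by rw [e]; rfl))
      exact congrArg _ (le_antisymm h1 h2)
  rw [h, isRegularLocalRing_iff, IsLocalRing.spanFinrank_maximalIdeal_eq_finrank_cotangentSpace, hdim]
  exact ⟨fun e => by rw [e]; rfl, fun e => by exact_mod_cast e⟩

end Groth.Agent.SepReg
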