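import Groth.Agent.GrpField.SmoothPoint
import Groth.Agent.SmDesc.Ring
import Groth.Agent.SmLocalST.EtReg
import Groth.Agent.RegLocus.Smooth

/-!
Regular = smooth at closed points with separable residue field.
-/

set_option autoImplicit false
set_option linter.style.haveILetI false

namespace Groth.Agent.SepReg

universe u

open TensorProduct IsLocalRing

attribute [local instance] Algebra.TensorProduct.rightAlgebra in
/-- Regular points with separable residue field are smooth (residue field given by a map). -/
theorem isSmoothAt_aux {k B κ : Type u} [Field k] [CommRing B] [Algebra k B] [Algebra.FiniteType k B] [Field κ]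
    [Algebra k κ] [Module.Finite k κ] [Algebra.IsSeparable k κ] (φ : B →ₐ[k] κ)
    (m : Ideal B) [m.IsMaximal] (hm : RingHom.ker φ = m) [IsRegularLocalRing (Localization.AtPrime m)] :
    Algebra.IsSmoothAt k m := by
  let R := κ ⊗[k] B
  haveI : IsNoetherianRing B := Algebra.FiniteType.isNoetherianRing k B
  haveI : Algebra.FinitePresentation k B := Algebra.FinitePresentation.of_finiteType.1 inferInstance
  haveI : IsNoetherianRing R := Algebra.FiniteType.isNoetherianRing κ R
  haveI : Algebra.FormallyEtale k κ := Algebra.FormallyEtale.of_isSeparable k κ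
  let e : B ⊗[k] κ ≃ₐ[B] R := { Algebra.TensorProduct.comm k B κ with commutes' := fun _ => rfl }
  haveI : Algebra.FormallyUnramified B R := Algebra.FormallyUnramified.of_equiv e
  haveI : Module.Flat B R := by
    have h : (algebraMap B (B ⊗[k] κ)).Flat := RingHom.flat_algebraMap_iff.2 inferInstance
    have e' : e.toRingEquiv.toRingHom.comp (algebraMap B (B ⊗[k] κ)) = algebraMap B R := RingHom.ext e.commutes
    rw [← RingHom.flat_algebraMap_iff, ← e']
    exact h.comp (RingHom.Flat.of_bijective e.bijective)
  haveI : Algebra.FiniteType B R := Algebra.FiniteType.of_surjective e.toAlgHom e.surjective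
  let π : R →ₐ[κ] κ := Algebra.TensorProduct.lift (AlgHom.id κ κ) φ (fun _ _ => Commute.all _ _)
  have hπ : Function.Surjective π := fun z => ⟨z ⊗ₜ 1, (Algebra.TensorProduct.lift_tmul _ _ _ _ _).trans (by simp)⟩
  let Q : Ideal R := RingHom.ker π
  haveI : Q.IsMaximal := RingHom.ker_isMaximal_of_surjective π hπ
  have hQm : Q.comap (algebraMap B R) = m := by
    ext b
    show π (algebraMap B R b) = 0 ↔ b ∈ m
    rw [RingHom.algebraMap_toAlgebra]
    show π (1 ⊗ₜ b) = 0 ↔ b ∈ m
    rw [show π (1 ⊗ₜ b) = φ b from (Algebra.TensorProduct.lift_tmul _ _ _ _ _).trans (by simp), ← hm]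
    exact Iff.rfl
  haveI : Q.LiesOver m := ⟨hQm.symm⟩
  letI := Localization.AtPrime.algebraOfLiesOver m Q
  haveI : IsLocalHom (algebraMap (Localization.AtPrime m) (Localization.AtPrime Q)) := by
    rw [Localization.AtPrime.IsLiesOverAlgebra.algebraMap_eq]; infer_instance
  haveI : Algebra.FormallyUnramified R (Localization.AtPrime Q) := .of_isLocalization Q.primeCompl
  haveI : Algebra.FormallyUnramified B (Localization.AtPrime Q) := .comp B R _
  haveI : Algebra.FormallyUnramified (Localization.AtPrime m) (Localization.AtPrime Q) := .of_restrictScalars B _ _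
  haveI : Algebra.EssFiniteType R (Localization.AtPrime Q) := .of_isLocalization _ Q.primeCompl
  haveI : Algebra.EssFiniteType B (Localization.AtPrime Q) := .comp B R _
  haveI : Algebra.EssFiniteType (Localization.AtPrime m) (Localization.AtPrime Q) := .of_comp B _ _
  haveI : Module.Flat R (Localization.AtPrime Q) := IsLocalization.flat _ Q.primeCompl
  haveI : Module.Flat B (Localization.AtPrime Q) := Module.Flat.trans B R _
  haveI : Module.Flat (Localization.AtPrime m) (Localization.AtPrime Q) :=
    (Module.flat_iff_of_isLocalization (Localization.AtPrime m) m.primeCompl (Localization.AtPrime Q)).2 inferInstance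
  haveI : IsNoetherianRing (Localization.AtPrime Q) := IsLocalization.isNoetherianRing Q.primeCompl _ inferInstance
  haveI : IsRegularLocalRing (Localization.AtPrime Q) :=
    SmLocalST.isRegularLocalRing_of_flat_unramified (Localization.AtPrime m) _
  have hres : ∀ b : R, ∃ c : κ, b - algebraMap κ R c ∈ Q := fun b => ⟨π b, by
    show π (b - algebraMap κ R (π b)) = 0
    rw [map_sub, AlgHom.commutes]; exact sub_self _⟩
  have hs := (GrpField.regular_iff_smoothAt_of_residue Q hres).1 inferInstance
  have h := SmDesc.isSmoothAt_of_tensor (R := k) (S := B) (T := κ) ⟨Q, inferInstance⟩ hs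
  have e : PrimeSpectrum.comap (algebraMap B R) ⟨Q, inferInstance⟩ = ⟨m, inferInstance⟩ := PrimeSpectrum.ext hQm
  rw [e] at h
  exact h

/-- Regular points with separable residue field are smooth. -/
theorem isSmoothAt_of_regular {k B : Type u} [Field k] [CommRing B] [Algebra k B] [Algebra.FiniteType k B]
    (m : Ideal B) [m.IsMaximal] [Algebra.IsSeparable k (B ⧸ m)] [IsRegularLocalRing (Localization.AtPrime m)] :
    Algebra.IsSmoothAt k m := by
  letI : Field (B ⧸ m) := Ideal.Quotient.field m
  haveI : Module.Finite k (B ⧸ m) := finite_of_finite_type_of_isJacobsonRing _ _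
  exact isSmoothAt_aux (Ideal.Quotient.mkₐ k m) m (Ideal.Quotient.mkₐ_ker k m)

/-- Smooth points are regular. -/
theorem regular_of_isSmoothAt {k B : Type u} [Field k] [CommRing B] [Algebra k B] [Algebra.FiniteType k B]
    (p : Ideal B) [p.IsPrime] [Algebra.IsSmoothAt k p] : IsRegularLocalRing (Localization.AtPrime p) := by
  haveI : Algebra.FinitePresentation k B := Algebra.FinitePresentation.of_finiteType.1 inferInstance
  obtain ⟨f, hf, hsm⟩ := Algebra.IsSmoothAt.exists_notMem_smooth k p
  haveI := hsm
  haveI : IsRegularRing (Localization.Away f) := RegLocus.isRegularRing_of_smooth k (Localization.Away f)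
  exact RegLocus.mem_regLocus_away f ⟨p, inferInstance⟩ hf

end Groth.Agent.SepReg
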